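import Groth.Agent.Dim62.LocalFormula
import Groth.Agent.E4O.StalkDim
import Groth.Agent.E4O.EquidimLocal
import Groth.Agent.E4O.FibreSets

/-!
Numerical data of a morphism locally of finite type at a point (EGA IV 5.5, 5.6, 13.2).
-/

universe u

open CategoryTheory AlgebraicGeometry Topology TopologicalSpace

namespace Groth.Agent.Dim62

open Groth.Agent.E4O

variable {X Y : Scheme.{u}} {f : X ⟶ Y}

/-- The image of a prime of the source chart in the target chart. -/
noncomputable def cpt (C : Chart f) (q : PrimeSpectrum C.B) : PrimeSpectrum C.A :=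
  PrimeSpectrum.comap (algebraMap C.A C.B) q

theorem apply_eq (C : Chart f) (q : PrimeSpectrum C.B) : f (C.pt q) = C.ptY (cpt C q) := C.apply q

theorem cpt_eq_iff (C : Chart f) (r q : PrimeSpectrum C.B) :
    f (C.pt r) = f (C.pt q) ↔ cpt C r = cpt C q := by
  rw [apply_eq, apply_eq]
  exact C.isOpenEmbedding_ptY.injective.eq_iff

theorem ringKrullDim_fibre (C : Chart f) (q : PrimeSpectrum C.B) :
    ringKrullDim ((f.fiber (f (C.pt q))).presheaf.stalk (f.asFiber (C.pt q))) =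
      Order.height (⟨q, rfl⟩ : {r : PrimeSpectrum C.B | cpt C r = cpt C q}) :=
  ringKrullDim_stalk_eq_height_subtype C.pt C.isOpenEmbedding_pt _ (isEmbedding_fiberι f _) _ q
    (f.fiberι_fiberHomeo_symm (f (C.pt q)) ⟨C.pt q, rfl⟩).symm {r : PrimeSpectrum C.B | cpt C r = cpt C q} (fun r _ => by
      rw [Scheme.Hom.range_fiberι, Set.mem_preimage, Set.mem_singleton_iff, cpt_eq_iff]
      rfl) rfl

/-- `dim O_{X_y,x} + deg x = dim_x X_y`. -/
theorem exists_fibre_data [LocallyOfFiniteType f] (C : Chart f) (q : PrimeSpectrum C.B) :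
    ∃ k : ℕ, Order.height (⟨q, rfl⟩ : {r : PrimeSpectrum C.B | cpt C r = cpt C q}) = (k : ℕ∞) ∧
      FlatMor.fibreDimAt f (C.pt q) = ((k + fdeg f (C.pt q) : ℕ) : WithBot ℕ∞) := by
  let S := {r : PrimeSpectrum C.B | cpt C r = cpt C q}
  obtain ⟨z, hz, hfz, hzd, hzmax, -⟩ := exists_fibreDimAt_eq f (C.pt q)
  obtain ⟨t, rfl⟩ := hz.mem_open C.isOpenEmbedding_pt.isOpen_range ⟨q, rfl⟩
  have htq : t ≤ q := (C.specializes_iff _ _).1 hz
  have hft : cpt C t = cpt C q := (cpt_eq_iff C t q).1 hfz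
  have h1 := C.height_fibre_add_fdeg_le q S (fun r hr => hr) rfl (D := fdeg f (C.pt t))
    fun r hr hrq => hzmax _ ((C.specializes_iff _ _).2 hrq) ((cpt_eq_iff C r q).2 hr)
  have h2 : (fdeg f (C.pt t) : ℕ∞) ≤ Order.height (⟨q, rfl⟩ : S) + fdeg f (C.pt q) := by
    refine (C.fdeg_le_relHeight_add t q htq hft).trans (add_le_add ?_ le_rfl)
    rw [relHeight_eq htq]
    refine le_trans (le_of_eq ?_) (Order.height_le_height_apply_of_strictMono
      (fun r : {r : Set.Ici t | r.1 ≤ q} => (⟨r.1.1, PrimeSpectrum.ext (le_antisymm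
        (Ideal.comap_mono r.2) ((congrArg PrimeSpectrum.asIdeal hft).ge.trans
          (Ideal.comap_mono r.1.2)))⟩ : S)) (fun _ _ h => h) ⟨⟨q, htq⟩, le_refl q⟩)
    exact (Order.height_eq_of_strictMono (fun r : {r : Set.Ici t | r.1 ≤ q} => r.1)
      (fun _ _ h => h) (fun a b hb => ⟨⟨b, (le_trans (le_of_lt hb) a.2 : b.1 ≤ q)⟩, hb, rfl⟩)
      ⟨⟨q, htq⟩, le_refl q⟩).symm
  obtain ⟨k, hk⟩ := ENat.ne_top_iff_exists.1
    (ne_top_of_le_ne_top (ENat.natCast_ne_top _) (le_self_add.trans h1))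
  rw [← hk] at h1 h2
  refine ⟨k, hk.symm, ?_⟩
  rw [hzd]
  norm_cast at h1 h2
  rw [le_antisymm h1 h2]

theorem exists_height (R : Type u) [CommRing R] [IsNoetherianRing R] (p : PrimeSpectrum R) :
    ∃ n : ℕ, p.asIdeal.height = (n : ℕ∞) := by
  obtain ⟨n, hn⟩ := ENat.ne_top_iff_exists.1 (Ideal.height_ne_top (I := p.asIdeal) p.2.ne_top)
  exact ⟨n, hn.symm⟩

theorem isUniversallyCatenary_localization (C : Chart f) (p : PrimeSpectrum C.A)
    (h : CAlg.IsUniversallyCatenary (Y.presheaf.stalk (C.ptY p))) :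
    CAlg.IsUniversallyCatenary (Localization.AtPrime p.asIdeal) := by
  obtain ⟨a, ha⟩ : ∃ _ : Algebra C.A (Y.presheaf.stalk (C.ptY p)),
      IsLocalization.AtPrime (Y.presheaf.stalk (C.ptY p)) p.asIdeal :=
    exists_isLocalization_stalk C.j p
  let e := IsLocalization.algEquiv p.asIdeal.primeCompl (Y.presheaf.stalk (C.ptY p))
    (Localization.AtPrime p.asIdeal)
  exact EGA4H10.isUniversallyCatenary_of_surjective e.toRingEquiv.toRingHom e.surjective h

/-- The data attached to a generization in a chart. -/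
theorem exists_component_data [LocallyOfFiniteType f] (C : Chart f) [IsNoetherianRing C.A]
    {m q : PrimeSpectrum C.B} (h : m ≤ q) :
    ∃ a' b' : ℕ, relHeight (cpt C m) (cpt C q) = (a' : ℕ∞) ∧ relHeight m q = (b' : ℕ∞) ∧
      (a' : ℕ∞) ≤ (cpt C q).asIdeal.height ∧ (b' : ℕ∞) ≤ q.asIdeal.height ∧
      b' + fdeg f (C.pt q) ≤ a' + fdeg f (C.pt m) ∧
      ((fdeg f (C.pt m) : ℕ) : WithBot ℕ∞) ≤ FlatMor.fibreDimAt f (C.pt q) ∧
      (CAlg.IsUniversallyCatenary (Y.presheaf.stalk (C.ptY (cpt C q))) →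
        b' + fdeg f (C.pt q) = a' + fdeg f (C.pt m)) := by
  have : IsNoetherianRing C.B := Algebra.FiniteType.isNoetherianRing C.A _
  obtain ⟨a', ha'⟩ := relHeight_lt_top (cpt C m) (cpt C q)
  obtain ⟨b', hb'⟩ := relHeight_lt_top m q
  refine ⟨a', b', ha', hb', ha' ▸ relHeight_le_height _ _, hb' ▸ relHeight_le_height _ _, ?_,
    fdeg_le_fibreDimAt_of_specializes ((C.specializes_iff _ _).2 h), fun hUC => ?_⟩
  · have := C.relHeight_add_fdeg_le m q h
    change relHeight m q + fdeg f (C.pt q) ≤ relHeight (cpt C m) (cpt C q) + fdeg f (C.pt m) at this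
    rw [ha', hb'] at this
    exact_mod_cast this
  · have := relHeight_add_trdeg_eq (A := C.A) m q h (isUniversallyCatenary_localization C _ hUC)
    rw [show PrimeSpectrum.comap (algebraMap C.A C.B) m = cpt C m from rfl,
      show PrimeSpectrum.comap (algebraMap C.A C.B) q = cpt C q from rfl, ha', hb',
      C.trdeg_eq_fdeg, C.trdeg_eq_fdeg, Cardinal.ofENat_nat, Cardinal.ofENat_nat] at this
    exact_mod_cast this

/-- The basic numbers at a point of a chart. -/
theorem exists_data [LocallyOfFiniteType f] (C : Chart f) [IsNoetherianRing C.A]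
    (q : PrimeSpectrum C.B) :
    ∃ a b k : ℕ, (cpt C q).asIdeal.height = (a : ℕ∞) ∧ q.asIdeal.height = (b : ℕ∞) ∧
      ringKrullDim (Y.presheaf.stalk (f (C.pt q))) = (a : ℕ) ∧
      ringKrullDim (X.presheaf.stalk (C.pt q)) = (b : ℕ) ∧
      ringKrullDim ((f.fiber (f (C.pt q))).presheaf.stalk (f.asFiber (C.pt q))) = (k : ℕ) ∧
      FlatMor.fibreDimAt f (C.pt q) = ((k + fdeg f (C.pt q) : ℕ) : WithBot ℕ∞) ∧ b ≤ a + k := by
  have : IsNoetherianRing C.B := Algebra.FiniteType.isNoetherianRing C.A _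
  obtain ⟨a, ha⟩ := exists_height C.A (cpt C q)
  obtain ⟨b, hb⟩ := exists_height C.B q
  obtain ⟨k, hk, hD⟩ := exists_fibre_data C q
  refine ⟨a, b, k, ha, hb, ?_, ?_, ?_, hD, ?_⟩
  · rw [apply_eq, C.ringKrullDim_stalkY, ha]; rfl
  · rw [C.ringKrullDim_stalk, hb]; rfl
  · rw [ringKrullDim_fibre, hk]; rfl
  · obtain ⟨m, hmq, -, hm⟩ := exists_minimal_relHeight_eq q
    obtain ⟨a', b', -, hb', ha1, -, h1, h2, -⟩ := exists_component_data C hmq
    rw [hm, hb] at hb'
    rw [ha] at ha1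
    rw [hD] at h2
    norm_cast at hb' ha1 h2
    omega

/-- Minimal primes of the target chart. -/
theorem isMinY_iff (C : Chart f) (p₀ : PrimeSpectrum C.A) :
    IsMin p₀ ↔ closure {C.ptY p₀} ∈ irreducibleComponents (Y : Type u) := by
  constructor
  · intro h
    refine closure_mem_irreducibleComponents fun w hw => ?_
    obtain ⟨t, rfl⟩ := hw.mem_open C.isOpenEmbedding_ptY.isOpen_range ⟨p₀, rfl⟩
    have htm := (C.specializesY_iff _ _).1 hw
    rw [show t = p₀ from le_antisymm htm (h htm)]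
  · intro h t ht
    exact (C.isOpenEmbedding_ptY.injective
      (eq_of_specializes_of_component h ((C.specializesY_iff _ _).2 ht))).ge

theorem isMin_of_relHeight_eq {R : Type u} [CommRing R] [IsNoetherianRing R]
    {p₀ p : PrimeSpectrum R} (h : p₀ ≤ p) (he : relHeight p₀ p = p.asIdeal.height) : IsMin p₀ := by
  have h1 := relHeight_add_le_height h
  obtain ⟨n, hn⟩ := exists_height R p
  obtain ⟨n₀, hn₀⟩ := exists_height R p₀
  rw [he, hn, hn₀] at h1
  norm_cast at h1
  have : p₀.asIdeal.height = 0 := by rw [hn₀, show n₀ = 0 by omega]; rfl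
  exact PrimeSpectrum.isMin_iff.2 (by rwa [← Ideal.height_eq_zero_iff])

theorem relHeight_eq_of_isEquidim (C : Chart f) (p₀ p : PrimeSpectrum C.A) (h : p₀ ≤ p)
    (hmin : IsMin p₀) (hY : EGA4.IsEquidim (Y.presheaf.stalk (C.ptY p))) :
    relHeight p₀ p = p.asIdeal.height := by
  obtain ⟨a, ha⟩ : ∃ _ : Algebra C.A (Y.presheaf.stalk (C.ptY p)),
      IsLocalization.AtPrime (Y.presheaf.stalk (C.ptY p)) p.asIdeal :=
    exists_isLocalization_stalk C.j p
  exact (isEquidim_localization_iff p (Y.presheaf.stalk (C.ptY p))).1 hY p₀ hmin h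

/-- A generic point of the fibre inside an irreducible closed set, with large residual degree. -/
theorem exists_fibre_point [LocallyOfFiniteType f] (C : Chart f) {m q : PrimeSpectrum C.B}
    (h : m ≤ q) : ∃ r, m ≤ r ∧ r ≤ q ∧ cpt C r = cpt C q ∧ fdeg f (C.pt m) ≤ fdeg f (C.pt r) := by
  let I : Ideal C.B := m.asIdeal ⊔ (cpt C q).asIdeal.map (algebraMap C.A C.B)
  obtain ⟨r, hr, hrq⟩ := Ideal.exists_minimalPrimes_le (I := I) (J := q.asIdeal)
    (sup_le h (Ideal.map_le_iff_le_comap.2 le_rfl))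
  let r' : PrimeSpectrum C.B := ⟨r, hr.1.1⟩
  have hmr : m ≤ r' := le_sup_left.trans hr.1.2
  have hcr : cpt C r' = cpt C q := PrimeSpectrum.ext (le_antisymm (Ideal.comap_mono hrq)
    (Ideal.map_le_iff_le_comap.1 (le_sup_right.trans hr.1.2)))
  refine ⟨r', hmr, hrq, hcr, fdeg_le_of_isMax_in_closure C m r' hmr fun s hms hsr hsp => ?_⟩
  refine le_antisymm hsr ?_
  exact hr.2 ⟨s.2, sup_le hms (Ideal.map_le_iff_le_comap.2
    (congrArg PrimeSpectrum.asIdeal (hsp.trans hcr)).ge)⟩ hsr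

end Groth.Agent.Dim62
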