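import Groth.Agent.Cyc90.DimFormula
import Groth.Agent.EGA4H10.CompleteUC
import Groth.Agent.E4O.LocalDim
import Mathlib.RingTheory.Localization.BaseChange

/-!
The dimension formula over a base whose local ring at the point is universally catenary.
-/

universe u

open scoped TensorProduct

namespace Groth.Agent.Dim62

/-- Transcendence degree is unchanged along extensions of fractions. -/
theorem trdeg_eq_of_fractions {D D' E E' : Type u} [CommRing D] [IsDomain D] [CommRing D']
    [IsDomain D'] [CommRing E] [IsDomain E] [CommRing E'] [IsDomain E'] [Algebra D E] [Algebra D' E']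
    (φ : D →+* D') (ψ : E →+* E') (hφ : Function.Injective φ) (hψ : Function.Injective ψ)
    (hDE : Function.Injective (algebraMap D E)) (hDE' : Function.Injective (algebraMap D' E'))
    (hcomm : ∀ d, ψ (algebraMap D E d) = algebraMap D' E' (φ d))
    (hgD : ∀ x : D', ∃ s a : D, s ≠ 0 ∧ φ s * x = φ a)
    (hgE : ∀ x : E', ∃ s a : E, s ≠ 0 ∧ ψ s * x = ψ a) :
    Algebra.trdeg D E = Algebra.trdeg D' E' := by
  let _ : Algebra E E' := ψ.toAlgebra
  let _ : Algebra D D' := φ.toAlgebra
  let _ : Algebra D E' := ((algebraMap D' E').comp φ).toAlgebra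
  have : IsScalarTower D D' E' := IsScalarTower.of_algebraMap_eq fun _ => rfl
  have : IsScalarTower D E E' := IsScalarTower.of_algebraMap_eq fun x => (hcomm x).symm
  have : FaithfulSMul D E := (faithfulSMul_iff_algebraMap_injective _ _).2 hDE
  have : FaithfulSMul D' E' := (faithfulSMul_iff_algebraMap_injective _ _).2 hDE'
  have : FaithfulSMul E E' := (faithfulSMul_iff_algebraMap_injective _ _).2 hψ
  have : FaithfulSMul D D' := (faithfulSMul_iff_algebraMap_injective _ _).2 hφ
  have key : ∀ {P Q : Type u} [CommRing P] [CommRing Q] [Algebra P Q] (x : Q) (s a : P),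
      s ≠ 0 → algebraMap P Q s * x = algebraMap P Q a → IsAlgebraic P x := by
    intro P Q _ _ _ x s a hs h
    refine ⟨Polynomial.C s * Polynomial.X - Polynomial.C a, ?_, ?_⟩
    · intro h0
      have := congrArg (fun t => Polynomial.coeff t 1) h0
      simp [hs] at this
    · simp only [map_sub, map_mul, Polynomial.aeval_C, Polynomial.aeval_X]
      exact sub_eq_zero.2 h
  have : Algebra.IsAlgebraic D D' := ⟨fun x => by
    obtain ⟨s, a, hs, h⟩ := hgD x; exact key x s a hs h⟩
  have : Algebra.IsAlgebraic E E' := ⟨fun x => by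
    obtain ⟨s, a, hs, h⟩ := hgE x; exact key x s a hs h⟩
  have e1 := trdeg_add_eq D E (A := E')
  have e2 := trdeg_add_eq D D' (A := E')
  rw [trdeg_eq_zero (R := E) (A := E'), add_zero] at e1
  rw [trdeg_eq_zero (R := D) (A := D'), zero_add] at e2
  exact e1.trans e2.symm

attribute [local instance] Algebra.TensorProduct.rightAlgebra in
/-- The dimension formula at a prime of a domain over a domain with universally catenary local
ring. -/
theorem height_add_trdeg_eq_of_localization {A₀ B₀ : Type u} [CommRing A₀] [IsDomain A₀]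
    [CommRing B₀] [IsDomain B₀] [Algebra A₀ B₀] [FaithfulSMul A₀ B₀] [Algebra.FiniteType A₀ B₀]
    (q : Ideal B₀) [q.IsPrime] (R : Type u) [CommRing R] [Algebra A₀ R]
    [IsLocalization.AtPrime R (q.under A₀)] (hR : CAlg.IsUniversallyCatenary R) :
    (q.height : Cardinal.{u}) + Algebra.trdeg (A₀ ⧸ q.under A₀) (B₀ ⧸ q) =
      ((q.under A₀).height : Cardinal.{u}) + Algebra.trdeg A₀ B₀ := by
  let p := q.under A₀
  let M := p.primeCompl
  have hM : M ≤ nonZeroDivisors A₀ := Ideal.primeCompl_le_nonZeroDivisors p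
  have : IsDomain R := IsLocalization.isDomain_of_le_nonZeroDivisors R hM
  let S := R ⊗[A₀] B₀
  let N := Algebra.algebraMapSubmonoid B₀ M
  have hloc : IsLocalization N S := IsLocalization.tensorRight R M
  have hN : N ≤ nonZeroDivisors B₀ := by
    rintro _ ⟨s, hs, rfl⟩
    exact mem_nonZeroDivisors_of_ne_zero ((map_ne_zero_iff _
      (FaithfulSMul.algebraMap_injective A₀ B₀)).2 (nonZeroDivisors.ne_zero (hM hs)))
  have : IsDomain S := IsLocalization.isDomain_of_le_nonZeroDivisors S hN
  have hBS : Function.Injective (algebraMap B₀ S) := IsLocalization.injective S hN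
  have hAR : Function.Injective (algebraMap A₀ R) := IsLocalization.injective R hM
  have hcomm : ∀ a, algebraMap B₀ S (algebraMap A₀ B₀ a) = algebraMap R S (algebraMap A₀ R a) :=
    fun a => by rw [← IsScalarTower.algebraMap_apply, ← IsScalarTower.algebraMap_apply]
  have hRS : Function.Injective (algebraMap R S) := (injective_iff_map_eq_zero _).2 fun x hx => by
    obtain ⟨⟨a, s⟩, has⟩ := IsLocalization.surj M x
    have h0 := congrArg (algebraMap R S) has
    rw [map_mul, hx, zero_mul, ← hcomm] at h0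
    have ha : a = 0 := FaithfulSMul.algebraMap_injective A₀ B₀ (hBS (by rw [← h0, map_zero, map_zero]))
    rw [ha, map_zero] at has
    exact ((IsLocalization.map_units R s).mul_left_eq_zero).1 has
  have : FaithfulSMul R S := (faithfulSMul_iff_algebraMap_injective R S).2 hRS
  have hdisj : Disjoint (N : Set B₀) (q : Set B₀) := Set.disjoint_left.2 fun x hx hxq => by
    obtain ⟨s, hs, rfl⟩ := hx
    exact hs hxq
  let Q := q.map (algebraMap B₀ S)
  have hQ : Q.IsPrime := IsLocalization.isPrime_of_isPrime_disjoint N S q ‹_› hdisj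
  have hQc : Q.under B₀ = q := IsLocalization.under_map_of_isPrime_disjoint N S ‹_› hdisj
  let P := p.map (algebraMap A₀ R)
  have hpd : Disjoint (M : Set A₀) (p : Set A₀) := Set.disjoint_left.2 fun x hx hxq => hx hxq
  have hP : P.IsPrime := IsLocalization.isPrime_of_isPrime_disjoint M R p inferInstance hpd
  have hPc : P.under A₀ = p := IsLocalization.under_map_of_isPrime_disjoint M R inferInstance hpd
  have hQP : Q.under R = P := by
    rw [← IsLocalization.map_under M R (Q.under R)]
    congr 1
    ext a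
    simp only [Ideal.under_def, Ideal.mem_comap, ← hcomm]
    rw [← Ideal.mem_comap, ← Ideal.under_def, hQc]
    rfl
  have : Q.LiesOver P := ⟨hQP.symm⟩
  have key := Cyc90.height_add_trdeg_eq R hR S P Q
  rw [IsLocalization.height_map_of_disjoint N q hdisj, IsLocalization.height_map_of_disjoint M p hpd]
    at key
  have hgA : ∀ x : R, ∃ s a : A₀, s ∈ M ∧ algebraMap A₀ R s * x = algebraMap A₀ R a := fun x => by
    obtain ⟨⟨a, s⟩, has⟩ := IsLocalization.surj M x
    exact ⟨s, a, s.2, by rw [mul_comm]; exact has⟩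
  have hgB : ∀ x : S, ∃ s a : B₀, s ∈ N ∧ algebraMap B₀ S s * x = algebraMap B₀ S a := fun x => by
    obtain ⟨⟨a, s⟩, has⟩ := IsLocalization.surj N x
    exact ⟨s, a, s.2, by rw [mul_comm]; exact has⟩
  have h1 : Algebra.trdeg A₀ B₀ = Algebra.trdeg R S :=
    trdeg_eq_of_fractions (algebraMap A₀ R) (algebraMap B₀ S) hAR hBS
      (FaithfulSMul.algebraMap_injective A₀ B₀) hRS hcomm
      (fun x => by
        obtain ⟨s, a, hs, h⟩ := hgA x
        exact ⟨s, a, nonZeroDivisors.ne_zero (hM hs), h⟩)
      (fun x => by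
        obtain ⟨s, a, hs, h⟩ := hgB x
        exact ⟨s, a, nonZeroDivisors.ne_zero (hN hs), h⟩)
  have h2 : Algebra.trdeg (A₀ ⧸ p) (B₀ ⧸ q) = Algebra.trdeg (R ⧸ P) (S ⧸ Q) := by
    refine trdeg_eq_of_fractions (Ideal.quotientMap P (algebraMap A₀ R) hPc.ge)
      (Ideal.quotientMap Q (algebraMap B₀ S) hQc.ge) (Ideal.quotientMap_injective' hPc.le)
      (Ideal.quotientMap_injective' hQc.le) Ideal.algebraMap_quotient_injective
      ((injective_iff_map_eq_zero _).2 fun x hx => ?_) (fun d => ?_) (fun x => ?_) fun x => ?_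
    · obtain ⟨r, rfl⟩ := Ideal.Quotient.mk_surjective x
      exact Ideal.Quotient.eq_zero_iff_mem.2
        (hQP.le (show algebraMap R S r ∈ Q from Ideal.Quotient.eq_zero_iff_mem.1 hx))
    · obtain ⟨a, rfl⟩ := Ideal.Quotient.mk_surjective d
      exact congrArg (Ideal.Quotient.mk Q) (hcomm a)
    · obtain ⟨r, rfl⟩ := Ideal.Quotient.mk_surjective x
      obtain ⟨s, a, hs, h⟩ := hgA r
      exact ⟨Ideal.Quotient.mk p s, Ideal.Quotient.mk p a,
        fun h0 => hs (Ideal.Quotient.eq_zero_iff_mem.1 h0), congrArg (Ideal.Quotient.mk P) h⟩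
    · obtain ⟨r, rfl⟩ := Ideal.Quotient.mk_surjective x
      obtain ⟨s, a, hs, h⟩ := hgB r
      exact ⟨Ideal.Quotient.mk q s, Ideal.Quotient.mk q a,
        fun h0 => Set.disjoint_left.1 hdisj hs (Ideal.Quotient.eq_zero_iff_mem.1 h0),
        congrArg (Ideal.Quotient.mk Q) h⟩
  rw [h1, h2]
  exact key

/-- The dimension formula relative to a smaller prime. -/
theorem relHeight_add_trdeg_eq {A B : Type u} [CommRing A] [IsNoetherianRing A] [CommRing B]
    [Algebra A B] [Algebra.FiniteType A B] (m q : PrimeSpectrum B) (h : m ≤ q)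
    (hR : CAlg.IsUniversallyCatenary (Localization.AtPrime (q.asIdeal.under A))) :
    (E4O.relHeight m q : Cardinal.{u}) + Algebra.trdeg (A ⧸ q.asIdeal.under A) (B ⧸ q.asIdeal) =
      (E4O.relHeight (PrimeSpectrum.comap (algebraMap A B) m)
        (PrimeSpectrum.comap (algebraMap A B) q) : Cardinal.{u}) +
        Algebra.trdeg (A ⧸ m.asIdeal.under A) (B ⧸ m.asIdeal) := by
  let p₀ := m.asIdeal.under A
  let p := q.asIdeal.under A
  have hp : p₀ ≤ p := Ideal.comap_mono h
  let A₀ := A ⧸ p₀
  let B₀ := B ⧸ m.asIdeal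
  have : FaithfulSMul A₀ B₀ :=
    (faithfulSMul_iff_algebraMap_injective _ _).2 Ideal.algebraMap_quotient_injective
  have : Algebra.FiniteType A B₀ :=
    Algebra.FiniteType.of_surjective (Ideal.Quotient.mkₐ A m.asIdeal) Ideal.Quotient.mk_surjective
  have : Algebra.FiniteType A₀ B₀ := .of_restrictScalars_finiteType A _ _
  let qb := q.asIdeal.map (Ideal.Quotient.mk m.asIdeal)
  have hqbp : qb.IsPrime := Ideal.map_isPrime_of_surjective Ideal.Quotient.mk_surjective
    (by rw [Ideal.mk_ker]; exact h)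
  have hqbc : qb.comap (Ideal.Quotient.mk m.asIdeal) = q.asIdeal := by
    rw [Ideal.comap_map_of_surjective _ Ideal.Quotient.mk_surjective, ← RingHom.ker_eq_comap_bot,
      Ideal.mk_ker]
    exact sup_eq_left.2 h
  have hpb : qb.under A₀ = p.map (Ideal.Quotient.mk p₀) := by
    refine Ideal.comap_injective_of_surjective (Ideal.Quotient.mk p₀)
      Ideal.Quotient.mk_surjective ?_
    rw [Ideal.comap_map_of_surjective (Ideal.Quotient.mk p₀) Ideal.Quotient.mk_surjective,
      ← RingHom.ker_eq_comap_bot, Ideal.mk_ker, sup_eq_left.2 hp]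
    conv_rhs => rw [show p = (qb.comap (Ideal.Quotient.mk m.asIdeal)).comap (algebraMap A B) by
      rw [hqbc]]
    rfl
  let Ap := Localization.AtPrime p
  let R' := Localization.AtPrime (qb.under A₀)
  have hpc : (qb.under A₀).comap (Ideal.Quotient.mk p₀) = p := by
    rw [hpb, Ideal.comap_map_of_surjective _ Ideal.Quotient.mk_surjective, ← RingHom.ker_eq_comap_bot,
      Ideal.mk_ker]
    exact sup_eq_left.2 hp
  let π : Ap →+* R' := IsLocalization.map (M := p.primeCompl) (T := (qb.under A₀).primeCompl) R'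
    (Ideal.Quotient.mk p₀) fun a ha h0 => ha (hpc.le h0)
  have hπ : Function.Surjective π := by
    intro x
    obtain ⟨a, ⟨s, hs⟩, rfl⟩ := IsLocalization.exists_mk'_eq (qb.under A₀).primeCompl x
    obtain ⟨a, rfl⟩ := Ideal.Quotient.mk_surjective a
    obtain ⟨s, rfl⟩ := Ideal.Quotient.mk_surjective s
    exact ⟨IsLocalization.mk' Ap a (⟨s, fun h0 => hs (hpc.ge h0)⟩ : p.primeCompl),
      IsLocalization.map_mk' _ _ _⟩
  have key := height_add_trdeg_eq_of_localization (A₀ := A₀) qb R'
    (EGA4H10.isUniversallyCatenary_of_surjective π hπ hR)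
  have e1 : qb.height = E4O.relHeight m q := E4O.height_map_quotient h
  have e2 : (qb.under A₀).height = E4O.relHeight (PrimeSpectrum.comap (algebraMap A B) m)
      (PrimeSpectrum.comap (algebraMap A B) q) := by
    rw [hpb]
    exact E4O.height_map_quotient (m := PrimeSpectrum.comap (algebraMap A B) m)
      (q := PrimeSpectrum.comap (algebraMap A B) q) hp
  rw [e1, e2] at key
  have e3 : Algebra.trdeg (A₀ ⧸ qb.under A₀) (B₀ ⧸ qb) =
      Algebra.trdeg (A ⧸ q.asIdeal.under A) (B ⧸ q.asIdeal) := by
    refine E4O.trdeg_eq_of_ringEquiv ((Ideal.quotEquivOfEq hpb).trans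
      (DoubleQuot.quotQuotEquivQuotOfLE hp)) (DoubleQuot.quotQuotEquivQuotOfLE h) ?_
    refine Ideal.Quotient.ringHom_ext (Ideal.Quotient.ringHom_ext (RingHom.ext fun a => ?_))
    rfl
  rw [e3] at key
  exact key

end Groth.Agent.Dim62
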