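import Groth.Agent.Dim62.Local
import Groth.Agent.E4O.FourCond
import Groth.Agent.E4O.GenOpen

/-!
`dim O_{X,x} = dim O_{Y,y} + dim O_{X_y,x}` for morphisms open at the generic points of the fibre
(EGA IV 14.2.1), without finiteness hypotheses.
-/

universe u

open CategoryTheory AlgebraicGeometry Topology TopologicalSpace

namespace Groth.Agent.Dim62

open Groth.Agent.E4O

theorem ringKrullDim_stalk_eq_height {R : Type u} [CommRing R] {X : Scheme.{u}}
    (e : Spec (CommRingCat.of R) ⟶ X) [IsOpenImmersion e] (P : PrimeSpectrum R) :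
    ringKrullDim (X.presheaf.stalk (e P)) = P.asIdeal.height := by
  obtain ⟨a, ha⟩ := exists_isLocalization_stalk e P
  exact IsLocalization.AtPrime.ringKrullDim_eq_height P.asIdeal _

theorem ringKrullDim_stalk_eq_of_isOpenAt {X Y : Scheme.{u}} [IsLocallyNoetherian X]
    [IsLocallyNoetherian Y] (f : X ⟶ Y) (x : X)
    (h : ∀ z : ↥(f.fiber (f x)), f.asFiber x ∈ closure {z} →
      (∀ z' : ↥(f.fiber (f x)), z ∈ closure {z'} → z' = z) →
      EGA43.IsOpenAt f (f.fiberι (f x) z)) :
    ringKrullDim (X.presheaf.stalk x) = ringKrullDim (Y.presheaf.stalk (f x)) +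
      ringKrullDim ((f.fiber (f x)).presheaf.stalk (f.asFiber x)) := by
  obtain ⟨_, ⟨U, hU, rfl⟩, hfU, -⟩ :=
    Y.isBasis_affineOpens.exists_subset_of_mem_open (Set.mem_univ (f x)) isOpen_univ
  obtain ⟨_, ⟨V, hV, rfl⟩, hxV, hVU⟩ :=
    X.isBasis_affineOpens.exists_subset_of_mem_open (show x ∈ f ⁻¹' (U : Set Y) from hfU)
      (U.2.preimage f.continuous)
  replace hU : IsAffineOpen U := hU
  replace hV : IsAffineOpen V := hV
  let φ := f.appLE U V hVU
  let _ : Algebra Γ(Y, U) Γ(X, V) := φ.hom.toAlgebra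
  have : IsNoetherianRing Γ(Y, U) := IsLocallyNoetherian.component_noetherian ⟨U, hU⟩
  have : IsNoetherianRing Γ(X, V) := IsLocallyNoetherian.component_noetherian ⟨V, hV⟩
  let e : Spec Γ(X, V) ⟶ X := hV.fromSpec
  let j : Spec Γ(Y, U) ⟶ Y := hU.fromSpec
  have := hV.isOpenImmersion_fromSpec
  have := hU.isOpenImmersion_fromSpec
  obtain ⟨q, hq⟩ : x ∈ Set.range e := by rw [hV.range_fromSpec]; exact hxV
  change PrimeSpectrum Γ(X, V) at q
  subst hq
  let π : PrimeSpectrum Γ(X, V) → PrimeSpectrum Γ(Y, U) :=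
    PrimeSpectrum.comap (algebraMap Γ(Y, U) Γ(X, V))
  have happ : ∀ r : PrimeSpectrum Γ(X, V), f (e r) = j (π r) := fun r =>
    (congrArg (fun k : Spec Γ(X, V) ⟶ Y => k r) (hU.SpecMap_appLE_fromSpec f hV hVU)).symm
  have hinj : ∀ r s : PrimeSpectrum Γ(X, V), f (e r) = f (e s) ↔ π r = π s := fun r s =>
    (Eq.congr (happ r) (happ s)).trans j.isOpenEmbedding.injective.eq_iff
  have hspecX : ∀ u v : PrimeSpectrum Γ(X, V), e u ⤳ e v ↔ u ≤ v := fun u v =>
    e.isOpenEmbedding.isInducing.specializes_iff.trans (PrimeSpectrum.le_iff_specializes u v).symm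
  let S := {r : PrimeSpectrum Γ(X, V) | π r = π q}
  have hK : ringKrullDim ((f.fiber (f (e q))).presheaf.stalk (f.asFiber (e q))) =
      Order.height (⟨q, rfl⟩ : S) :=
    ringKrullDim_stalk_eq_height_subtype (fun r => e r) e.isOpenEmbedding _
      (isEmbedding_fiberι f _) _ q
      (f.fiberι_fiberHomeo_symm (f (e q)) ⟨e q, rfl⟩).symm S (fun r _ => by
        rw [Scheme.Hom.range_fiberι, Set.mem_preimage, Set.mem_singleton_iff]
        exact (hinj r q).symm) rfl
  rw [hK, ringKrullDim_stalk_eq_height e q, happ, ringKrullDim_stalk_eq_height j (π q),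
    ← WithBot.coe_add, WithBot.coe_inj]
  refine le_antisymm ?_ ?_
  · obtain ⟨m, hmq, -, hm⟩ := exists_minimal_relHeight_eq q
    rw [← hm]
    exact (relHeight_le_add_fibre (A := Γ(Y, U)) m q hmq).trans
      (add_le_add (relHeight_le_height _ _)
        (height_mono_subset (S := {r | m ≤ r ∧ π r = π q}) (T := S) (fun r hr => hr.2) q ⟨hmq, rfl⟩))
  · have hne : Order.height (⟨q, rfl⟩ : S) ≠ ⊤ := by
      refine ne_top_of_le_ne_top (Ideal.height_ne_top (I := q.asIdeal) q.2.ne_top) ?_
      rw [PrimeSpectrum.height_eq_orderHeight]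
      exact Order.height_le_height_apply_of_strictMono (α := S) (fun r => r.1) (fun _ _ h => h) ⟨q, rfl⟩
    obtain ⟨k, hk⟩ := ENat.ne_top_iff_exists.1 hne
    obtain ⟨l, hl, hlen⟩ := Order.exists_series_of_height_eq_coe _ hk.symm
    obtain ⟨z, hz, hzl⟩ := Ideal.exists_minimalPrimes_le
      (I := (π q).asIdeal.map (algebraMap Γ(Y, U) Γ(X, V))) (J := l.head.1.asIdeal)
      (Ideal.map_le_iff_le_comap.2 (congrArg PrimeSpectrum.asIdeal l.head.2).ge)
    let z' : PrimeSpectrum Γ(X, V) := ⟨z, hz.1.1⟩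
    have hlq : l.head.1 ≤ q := by
      have h5 : l.head ≤ l.last := l.head_le_last
      rw [hl] at h5
      exact h5
    have hzq : z' ≤ q := le_trans hzl hlq
    have hπz : π z' = π q := PrimeSpectrum.ext (le_antisymm
      ((Ideal.comap_mono hzl).trans (congrArg PrimeSpectrum.asIdeal l.head.2).le)
      (Ideal.map_le_iff_le_comap.1 hz.1.2))
    have hrel : (k : ℕ∞) ≤ relHeight z' q := by
      rw [relHeight_eq hzq]
      let l' : LTSeries (Set.Ici z') := LTSeries.mk l.length
        (fun i => ⟨(l i).1, le_trans hzl (l.head_le i)⟩) fun i j hij => l.strictMono hij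
      have hl' : l'.last = ⟨q, hzq⟩ := Subtype.ext (congrArg Subtype.val hl :)
      rw [← hlen]
      exact Order.length_le_height (p := l') hl'.le
    -- openness at `z'`
    obtain ⟨zf, hzf⟩ := exists_fiberι_eq f ((hinj z' q).2 hπz)
    have hopen := h zf (specializes_iff_mem_closure.1 ((specializes_fiberι_iff f _ _ _).1 (by
        rw [hzf]
        exact ((hspecX z' q).2 hzq).trans
          (specializes_of_eq (f.fiberι_fiberHomeo_symm (f (e q)) ⟨e q, rfl⟩).symm))))
      fun w hw => by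
        have hw' : f.fiberι _ w ⤳ f.fiberι _ zf :=
          (specializes_fiberι_iff f _ w zf).2 (specializes_iff_mem_closure.2 hw)
        refine (isEmbedding_fiberι f _).injective ?_
        rw [hzf] at hw' ⊢
        obtain ⟨s, hs⟩ : ∃ s : PrimeSpectrum Γ(X, V), e s = f.fiberι _ w :=
          hw'.mem_open e.isOpenEmbedding.isOpen_range ⟨z', rfl⟩
        have hsz : s ≤ z' := (hspecX s z').1 (hs ▸ hw')
        rw [← hs]
        have hπs : π s = π q := (hinj s q).1 (by rw [hs, apply_fiberι])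
        refine congrArg _ (le_antisymm hsz ?_)
        exact hz.2 ⟨s.2, Ideal.map_le_iff_le_comap.2 (congrArg PrimeSpectrum.asIdeal hπs).ge⟩ hsz
    rw [hzf] at hopen
    have hht : (π q).asIdeal.height ≤ z'.asIdeal.height := by
      rw [← hπz]
      have : z'.asIdeal.IsPrime := hz.1.1
      refine height_under_le_height_of_lifts z'.asIdeal fun p' hp' hp'le => ?_
      have hy : j (⟨p', hp'⟩ : PrimeSpectrum Γ(Y, U)) ⤳ f (e z') := by
        rw [happ]
        exact ((PrimeSpectrum.le_iff_specializes (⟨p', hp'⟩ : PrimeSpectrum Γ(Y, U)) (π z')).1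
          hp'le).map j.continuous
      have hcl : e z' ∈ closure (f ⁻¹' {j (⟨p', hp'⟩ : PrimeSpectrum Γ(Y, U))}) := by
        rw [mem_closure_iff]
        intro O hO hxO
        obtain ⟨W, hW, hWo, hxW⟩ := mem_nhds_iff.1 (hopen O (hO.mem_nhds hxO))
        obtain ⟨a, ha, hay⟩ := hW (hy.mem_open hWo hxW)
        exact ⟨a, ha, hay⟩
      obtain ⟨x', hx', hsp⟩ := exists_specializes_of_mem_closure_preimage f hcl
      obtain ⟨s, rfl⟩ : ∃ s : PrimeSpectrum Γ(X, V), e s = x' :=
        hsp.mem_open e.isOpenEmbedding.isOpen_range ⟨z', rfl⟩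
      rw [happ] at hx'
      exact ⟨s.asIdeal, s.2, (hspecX s z').1 hsp,
        congrArg PrimeSpectrum.asIdeal (j.isOpenEmbedding.injective hx')⟩
    rw [← hk]
    exact (add_le_add hht hrel).trans (relHeight_add_le_height hzq)

end Groth.Agent.Dim62
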