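import Groth.Agent.Dim62.Local
import Groth.Agent.E4O.StalkChart

/-!
Primes of stalks as generizations, with their quotient dimensions.
-/

universe u

open CategoryTheory AlgebraicGeometry Topology TopologicalSpace

namespace Groth.Agent.Dim62

open Groth.Agent.E4O

/-- The stalk at a point of an affine chart, with the position of its primes. -/
theorem exists_stalk_algebra {R : Type u} [CommRing R] {X : Scheme.{u}}
    (e : Spec (CommRingCat.of R) ⟶ X) [IsOpenImmersion e] (P : PrimeSpectrum R) :
    ∃ _ : Algebra R (X.presheaf.stalk (e P)),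
      IsLocalization.AtPrime (X.presheaf.stalk (e P)) P.asIdeal ∧
      ∀ Q : PrimeSpectrum (X.presheaf.stalk (e P)),
        X.fromSpecStalk (e P) Q = e (PrimeSpectrum.comap (algebraMap R _) Q) := by
  let k : Algebra R ((Spec (CommRingCat.of R)).presheaf.stalk P) :=
    StructureSheaf.stalkAlgebra R P
  have h : IsLocalization.AtPrime ((Spec (CommRingCat.of R)).presheaf.stalk P) P.asIdeal :=
    StructureSheaf.IsLocalization.to_stalk R P
  let P' : ↥(Spec (CommRingCat.of R)) := P
  let i : X.presheaf.stalk (e P) ≃+* (Spec (CommRingCat.of R)).presheaf.stalk P :=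
    (asIso (e.stalkMap P')).commRingCatIsoToRingEquiv
  let a : Algebra R (X.presheaf.stalk (e P)) := (i.symm.toRingHom.comp (algebraMap R _)).toAlgebra
  refine ⟨a, ?_, fun Q => ?_⟩
  · let i' : (Spec (CommRingCat.of R)).presheaf.stalk P ≃ₐ[R] X.presheaf.stalk (e P) :=
      { i.symm with commutes' := fun r => rfl }
    exact IsLocalization.isLocalization_of_algEquiv P.asIdeal.primeCompl i'
  · let Q' := PrimeSpectrum.comap i.symm.toRingHom Q
    have hQ : PrimeSpectrum.comap (e.stalkMap P').hom Q' = Q := by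
      refine PrimeSpectrum.ext (Ideal.ext fun z => ?_)
      show i.symm (i z) ∈ Q.asIdeal ↔ z ∈ Q.asIdeal
      rw [i.symm_apply_apply]
    have h1 := congrArg (fun k : Spec ((Spec (CommRingCat.of R)).presheaf.stalk P') ⟶ X => k Q')
      (Scheme.SpecMap_stalkMap_fromSpecStalk e (x := P'))
    simp only [Scheme.Hom.comp_apply, Spec.fromSpecStalk_eq'] at h1
    refine Eq.trans ?_ (h1.trans rfl)
    exact congrArg _ hQ.symm

/-- A prime of a stalk, seen in a chart. -/
theorem exists_prime_data {R : Type u} [CommRing R] {X : Scheme.{u}}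
    (e : Spec (CommRingCat.of R) ⟶ X) [IsOpenImmersion e] (P : PrimeSpectrum R) (x : X)
    (hx : x = e P) (Q : PrimeSpectrum (X.presheaf.stalk x)) :
    ∃ t : PrimeSpectrum R, t ≤ P ∧ X.fromSpecStalk x Q = e t ∧
      ringKrullDim (X.presheaf.stalk x ⧸ Q.asIdeal) = relHeight t P ∧ (IsMin Q → IsMin t) := by
  subst hx
  obtain ⟨a, ha, hpt⟩ := exists_stalk_algebra e P
  have hspec : ∀ u v : PrimeSpectrum R, e u ⤳ e v ↔ u ≤ v := fun u v =>
    e.isOpenEmbedding.isInducing.specializes_iff.trans (PrimeSpectrum.le_iff_specializes u v).symm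
  have hle : ∀ Q' : PrimeSpectrum (X.presheaf.stalk (e P)),
      PrimeSpectrum.comap (algebraMap R _) Q' ≤ P := fun Q' => by
    rw [← hspec, ← hpt]
    exact (Scheme.range_fromSpecStalk (X := X) (x := e P)).le ⟨Q', rfl⟩
  refine ⟨PrimeSpectrum.comap (algebraMap R _) Q, hle Q, hpt Q,
    ringKrullDim_quotient_localization P _ Q, fun hmin t ht => ?_⟩
  obtain ⟨Q', hQ'⟩ : ∃ Q' : PrimeSpectrum (X.presheaf.stalk (e P)), X.fromSpecStalk (e P) Q' = e t := by
    show e t ∈ Set.range (X.fromSpecStalk (e P))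
    rw [Scheme.range_fromSpecStalk]
    exact (hspec _ _).2 (ht.trans (hle Q))
  have ht' : t = PrimeSpectrum.comap (algebraMap R _) Q' :=
    e.isOpenEmbedding.injective (hQ'.symm.trans (hpt Q'))
  have hQQ : Q' ≤ Q := by
    show Q'.asIdeal ≤ Q.asIdeal
    rw [← IsLocalization.map_under P.asIdeal.primeCompl (X.presheaf.stalk (e P)) Q'.asIdeal]
    refine Ideal.map_le_iff_le_comap.2 ?_
    rw [ht'] at ht
    exact ht
  rw [ht']
  exact Ideal.comap_mono (hmin hQQ)

end Groth.Agent.Dim62
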